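import Groth.Prelude.Def_ChGrp
import Groth.Agent.SchDesc.Effective
import Groth.Agent.SchDesc.Local
import Groth.Agent.SchDesc.QAff
import Groth.Agent.SchDesc.TorsorDesc

/-!
# Associated bundles of a torsor: descent of an equivariant affine morphism along a torsor
-/

set_option autoImplicit false
set_option linter.style.haveILetI false
set_option backward.isDefEq.respectTransparency false
set_option backward.isDefEq.respectTransparency.types false

universe u

open CategoryTheory CategoryTheory.Limits MonoidalCategory CartesianMonoidalCategory MonObj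
  AlgebraicGeometry

noncomputable section

namespace Groth.Agent.AssocBundle

variable {S : Scheme.{u}} {G X Y E : Over S} [GrpObj G] {a : AlgGrp.Action G X} {φ : X ⟶ Y}
  (hcart : IsPullback a.act (snd G X) φ φ)

/-- The unique group element moving `x` to `y`. -/
def div {T : Over S} (y x : T ⟶ X) (h : y ≫ φ = x ≫ φ) : T ⟶ G := hcart.lift y x h ≫ fst G X

theorem div_act {T : Over S} (y x : T ⟶ X) (h : y ≫ φ = x ≫ φ) :
    lift (div hcart y x h) x ≫ a.act = y := by
  have e : hcart.lift y x h = lift (div hcart y x h) x := by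
    apply CartesianMonoidalCategory.hom_ext
    · rw [lift_fst]; rfl
    · rw [lift_snd, IsPullback.lift_snd]
  rw [← e, IsPullback.lift_fst]

theorem div_eq {T : Over S} (y x : T ⟶ X) (h : y ≫ φ = x ≫ φ) (g : T ⟶ G)
    (hg : lift g x ≫ a.act = y) : div hcart y x h = g := by
  have e : hcart.lift y x h = lift g x := hcart.hom_ext (by rw [IsPullback.lift_fst, hg])
    (by rw [IsPullback.lift_snd, lift_snd])
  rw [div, e, lift_fst]

variable (π : E ⟶ X) (c : AlgGrp.Action G E) (hπ : c.act ≫ π = (G ◁ π) ≫ a.act)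

include hπ in
theorem lift_act_π {T : Over S} (g : T ⟶ G) (w : T ⟶ E) :
    (lift g w ≫ c.act) ≫ π = lift g (w ≫ π) ≫ a.act := by
  rw [Category.assoc, hπ, lift_whiskerLeft_assoc]

/-- The point in the orbit of `w` lying above `y`. -/
def mv {T : Over S} (w : T ⟶ E) (y : T ⟶ X) (h : y ≫ φ = (w ≫ π) ≫ φ) : T ⟶ E :=
  lift (div hcart y (w ≫ π) h) w ≫ c.act

theorem mv_eq {T : Over S} (w : T ⟶ E) (y : T ⟶ X) (h : y ≫ φ = (w ≫ π) ≫ φ) (g : T ⟶ G)
    (hg : lift g (w ≫ π) ≫ a.act = y) : mv hcart π c w y h = lift g w ≫ c.act := by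
  rw [mv, div_eq hcart y (w ≫ π) h g hg]

include hπ in
theorem mv_π {T : Over S} (w : T ⟶ E) (y : T ⟶ X) (h : y ≫ φ = (w ≫ π) ≫ φ) :
    mv hcart π c w y h ≫ π = y := by
  rw [mv, lift_act_π π c hπ, div_act]

theorem mv_self {T : Over S} (w : T ⟶ E) : mv hcart π c w (w ≫ π) rfl = w := by
  rw [mv_eq hcart π c w (w ≫ π) rfl 1 (AlgGrp.Action.lift_one_act _ _), AlgGrp.Action.lift_one_act]

include hπ in
theorem mv_mv {T : Over S} (w : T ⟶ E) (y z : T ⟶ X) (h : y ≫ φ = (w ≫ π) ≫ φ)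
    (h' : z ≫ φ = (mv hcart π c w y h ≫ π) ≫ φ) (h'' : z ≫ φ = (w ≫ π) ≫ φ) :
    mv hcart π c (mv hcart π c w y h) z h' = mv hcart π c w z h'' := by
  let g := div hcart y (w ≫ π) h
  let g' := div hcart z (mv hcart π c w y h ≫ π) h'
  have hz : lift g' (lift g (w ≫ π) ≫ a.act) ≫ a.act = z := by
    rw [← lift_act_π π c hπ g w]
    exact div_act hcart _ _ h'
  rw [mv_eq hcart π c w z h'' (g' * g) (by rw [AlgGrp.Action.lift_mul_act, hz]),
    AlgGrp.Action.lift_mul_act]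
  rfl

theorem comp_mv {T T' : Over S} (k : T' ⟶ T) (w : T ⟶ E) (y : T ⟶ X) (h : y ≫ φ = (w ≫ π) ≫ φ) :
    k ≫ mv hcart π c w y h = mv hcart π c (k ≫ w) (k ≫ y) (by simp only [Category.assoc, h]) := by
  rw [mv_eq hcart π c (k ≫ w) (k ≫ y) _ (k ≫ div hcart y (w ≫ π) h) (by
    rw [Category.assoc, ← comp_lift_assoc, div_act]), mv, ← comp_lift_assoc]

theorem over_cond {T : Scheme.{u}} (v : T ⟶ E.left) (y : T ⟶ X.left)
    (h : v ≫ π.left ≫ φ.left = y ≫ φ.left) : y ≫ X.hom = v ≫ E.hom :=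
  calc y ≫ X.hom = y ≫ φ.left ≫ Y.hom := by rw [Over.w φ]
    _ = (v ≫ π.left ≫ φ.left) ≫ Y.hom := by rw [h, Category.assoc]
    _ = v ≫ E.hom := by rw [Category.assoc, Category.assoc, Over.w φ, Over.w π]

/-- Moving, on raw points. -/
def mvRaw {T : Scheme.{u}} (v : T ⟶ E.left) (y : T ⟶ X.left) (h : v ≫ π.left ≫ φ.left = y ≫ φ.left) :
    T ⟶ E.left :=
  (mv hcart π c (Over.homMk v rfl : Over.mk (v ≫ E.hom) ⟶ E) (Over.homMk y (over_cond π v y h))
    (Over.OverMorphism.ext (h.symm.trans (Category.assoc _ _ _).symm))).left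

theorem left_cond {T : Over S} {w : T ⟶ E} {y : T ⟶ X} (h : y ≫ φ = (w ≫ π) ≫ φ) :
    w.left ≫ π.left ≫ φ.left = y.left ≫ φ.left :=
  (Category.assoc _ _ _).symm.trans (congrArg (fun k => k.left) h).symm

theorem mvRaw_left {T : Over S} (w : T ⟶ E) (y : T ⟶ X) (h : y ≫ φ = (w ≫ π) ≫ φ)
    (h₀ : w.left ≫ π.left ≫ φ.left = y.left ≫ φ.left) :
    mvRaw hcart π c w.left y.left h₀ = (mv hcart π c w y h).left := by
  let k : Over.mk (w.left ≫ E.hom) ⟶ T := Over.homMk (𝟙 _) (by simp)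
  have hw : (Over.homMk w.left rfl : Over.mk (w.left ≫ E.hom) ⟶ E) = k ≫ w :=
    Over.OverMorphism.ext (Category.id_comp _).symm
  have hy : (Over.homMk y.left (over_cond π w.left y.left h₀) : Over.mk (w.left ≫ E.hom) ⟶ X) = k ≫ y :=
    Over.OverMorphism.ext (Category.id_comp _).symm
  unfold mvRaw
  simp only [hw, hy]
  rw [← comp_mv, Over.comp_left]
  exact Category.id_comp _

include hπ in
theorem mvRaw_π {T : Scheme.{u}} (v : T ⟶ E.left) (y : T ⟶ X.left)
    (h : v ≫ π.left ≫ φ.left = y ≫ φ.left) : mvRaw hcart π c v y h ≫ π.left = y :=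
  congrArg (fun k => k.left) (mv_π hcart π c hπ (Over.homMk v rfl : Over.mk (v ≫ E.hom) ⟶ E)
    (Over.homMk y (over_cond π v y h)) (Over.OverMorphism.ext (h.symm.trans (Category.assoc _ _ _).symm)))

theorem hcond {T : Scheme.{u}} {x₀ x₁ : T ⟶ X.left} (h : x₀ ≫ φ.left = x₁ ≫ φ.left)
    (v : _root_.Desc.Lifts (Over.mk π.left) x₀) : v.1 ≫ π.left ≫ φ.left = x₁ ≫ φ.left := by
  have hv : v.1 ≫ π.left = x₀ := v.2
  exact (Category.assoc _ _ _).symm.trans ((congrArg (· ≫ φ.left) hv).trans h)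

theorem mvRaw_self {T : Scheme.{u}} (v : T ⟶ E.left) (y : T ⟶ X.left)
    (h : v ≫ π.left ≫ φ.left = y ≫ φ.left) (hy : v ≫ π.left = y) : mvRaw hcart π c v y h = v := by
  subst hy
  let w : Over.mk (v ≫ E.hom) ⟶ E := Over.homMk v rfl
  refine (mvRaw_left hcart π c w (w ≫ π) rfl h).trans ?_
  rw [mv_self]
  rfl

include hπ in
theorem mvRaw_mvRaw {T : Scheme.{u}} (v : T ⟶ E.left) (y z : T ⟶ X.left)
    (h : v ≫ π.left ≫ φ.left = y ≫ φ.left)
    (h' : mvRaw hcart π c v y h ≫ π.left ≫ φ.left = z ≫ φ.left)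
    (h'' : v ≫ π.left ≫ φ.left = z ≫ φ.left) :
    mvRaw hcart π c (mvRaw hcart π c v y h) z h' = mvRaw hcart π c v z h'' := by
  let T₀ : Over S := Over.mk (v ≫ E.hom)
  let w : T₀ ⟶ E := Over.homMk v rfl
  let y' : T₀ ⟶ X := Over.homMk y (over_cond π v y h)
  let z' : T₀ ⟶ X := Over.homMk z (over_cond π v z h'')
  have hy : y' ≫ φ = (w ≫ π) ≫ φ := Over.OverMorphism.ext (h.symm.trans (Category.assoc _ _ _).symm)
  have hz : z' ≫ φ = (w ≫ π) ≫ φ := Over.OverMorphism.ext (h''.symm.trans (Category.assoc _ _ _).symm)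
  have e₁ : mvRaw hcart π c v y h = (mv hcart π c w y' hy).left := mvRaw_left hcart π c w y' hy h
  simp only [e₁]
  refine (mvRaw_left hcart π c (mv hcart π c w y' hy) z' ?_ _).trans ?_
  · rw [mv_π hcart π c hπ, hz, hy]
  rw [mv_mv hcart π c hπ w y' z' hy _ hz]
  exact (mvRaw_left hcart π c w z' hz h'').symm

include hπ in
theorem mvRaw_cond {T : Scheme.{u}} (v : T ⟶ E.left) (y z : T ⟶ X.left)
    (h : v ≫ π.left ≫ φ.left = y ≫ φ.left) (e : y ≫ φ.left = z ≫ φ.left) :
    mvRaw hcart π c v y h ≫ π.left ≫ φ.left = z ≫ φ.left :=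
  (Category.assoc _ _ _).symm.trans ((congrArg (· ≫ φ.left) (mvRaw_π hcart π c hπ v y h)).trans e)

/-- The descent datum on `E` along the torsor. -/
def datum : _root_.Desc.SchDD φ.left where
  obj := Over.mk π.left
  φ T x₀ x₁ h :=
    { toFun := fun v => ⟨mvRaw hcart π c v.1 x₁ (hcond π h v), mvRaw_π hcart π c hπ v.1 x₁ (hcond π h v)⟩
      invFun := fun v => ⟨mvRaw hcart π c v.1 x₀ (hcond π h.symm v),
        mvRaw_π hcart π c hπ v.1 x₀ (hcond π h.symm v)⟩
      left_inv := fun v => Subtype.ext ((mvRaw_mvRaw hcart π c hπ v.1 x₁ x₀ (hcond π h v)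
        (mvRaw_cond hcart π c hπ v.1 x₁ x₀ (hcond π h v) h.symm) (hcond π rfl v)).trans
        (mvRaw_self hcart π c v.1 x₀ (hcond π rfl v) v.2))
      right_inv := fun v => Subtype.ext ((mvRaw_mvRaw hcart π c hπ v.1 x₀ x₁ (hcond π h.symm v)
        (mvRaw_cond hcart π c hπ v.1 x₀ x₁ (hcond π h.symm v) h) (hcond π rfl v)).trans
        (mvRaw_self hcart π c v.1 x₁ (hcond π rfl v) v.2)) }
  φ_natural T T' g x₀ x₁ h h' v v' e := by
    show mvRaw hcart π c v'.1 (g ≫ x₁) (hcond π h' v') = g ≫ mvRaw hcart π c v.1 x₁ (hcond π h v)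
    let T₁ : Over S := Over.mk (v.1 ≫ E.hom)
    let T₂ : Over S := Over.mk (g ≫ v.1 ≫ E.hom)
    let k : T₂ ⟶ T₁ := Over.homMk g rfl
    let w : T₁ ⟶ E := Over.homMk v.1 rfl
    let y : T₁ ⟶ X := Over.homMk x₁ (over_cond π v.1 x₁ (hcond π h v))
    have hy : y ≫ φ = (w ≫ π) ≫ φ :=
      Over.OverMorphism.ext ((hcond π h v).symm.trans (Category.assoc _ _ _).symm)
    simp only [e]
    refine (mvRaw_left hcart π c (k ≫ w) (k ≫ y) (by simp only [Category.assoc, hy]) _).trans ?_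
    rw [← comp_mv hcart π c k w y hy]
    exact congrArg (g ≫ ·) (mvRaw_left hcart π c w y hy (hcond π h v)).symm
  φ_self T x v := Subtype.ext (mvRaw_self hcart π c v.1 x (hcond π rfl v) v.2)
  φ_comp T x₀ x₁ x₂ h₀₁ h₁₂ v := Subtype.ext
    (mvRaw_mvRaw hcart π c hπ v.1 x₁ x₂ (hcond π h₀₁ v)
      (mvRaw_cond hcart π c hπ v.1 x₁ x₂ (hcond π h₀₁ v) h₁₂) (hcond π (h₀₁.trans h₁₂) v))

variable [SchDesc.IsFpqc φ.left]

include hcart hπ in
/-- A quotient of the descent datum is a quotient of `E` by the group. -/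
theorem exists_quotient_of_quot (Q : SchDesc.Quot (datum hcart π c hπ) ⊤) :
    ∃ (Q : Over S) (q : E ⟶ Q) (r : Q ⟶ Y), q ≫ r = π ≫ φ ∧
      IsPullback π.left q.left φ.left r.left ∧ SchDesc.IsFpqc q.left ∧
      IsPullback c.act (snd G E) q q := by
  let D := datum hcart π c hπ
  have hsq : IsPullback π.left Q.π₀ φ.left Q.str := Q.isPullback₀
  let r₀ : Q.U ⟶ Y.left := Q.str
  let Qo : Over S := Over.mk (r₀ ≫ Y.hom)
  have hw : Q.π₀ ≫ r₀ ≫ Y.hom = E.hom := by
    rw [← reassoc_of% hsq.w, Over.w φ, Over.w π]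
  let q : E ⟶ Qo := Over.homMk Q.π₀ hw
  let r : Qo ⟶ Y := Over.homMk r₀ rfl
  have hqr : q ≫ r = π ≫ φ := Over.OverMorphism.ext hsq.w.symm
  have hsq' : IsPullback π.left q.left φ.left r.left := hsq
  have hinv₁ : ∀ {T : Over S} (w : T ⟶ E) (y : T ⟶ X) (h : y ≫ φ = (w ≫ π) ≫ φ),
      mv hcart π c w y h ≫ q = w ≫ q := fun {T} w y h => by
    refine Over.OverMorphism.ext ?_
    show (mv hcart π c w y h).left ≫ Q.π₀ = w.left ≫ Q.π₀
    refine Eq.trans ?_ (Q.inv₀ w.left y.left (left_cond π h))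
    congr 1
    refine Eq.trans ?_ (SchDesc.φ_eq_move (D := D) (w.left ≫ π.left) y.left
      ((Category.assoc _ _ _).trans (left_cond π h)) ⟨w.left, rfl⟩)
    exact (mvRaw_left hcart π c w y h (left_cond π h)).symm
  have hinv : c.act ≫ q = snd G E ≫ q := by
    have h : (c.act ≫ π) ≫ φ = (snd G E ≫ π) ≫ φ := by
      rw [hπ, Category.assoc, hcart.w, CartesianMonoidalCategory.whiskerLeft_snd_assoc, Category.assoc]
    have e : mv hcart π c (snd G E) (c.act ≫ π) h = c.act := by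
      have h0 : lift (fst G E) (snd G E) ≫ c.act = c.act := by rw [lift_fst_snd, Category.id_comp]
      refine (mv_eq hcart π c (snd G E) (c.act ≫ π) h (fst G E) ?_).trans h0
      rw [← lift_act_π π c hπ, h0]
    rw [← hinv₁ (snd G E) (c.act ≫ π) h, e]
  have hext : ∀ {T : Over S} (w w' : T ⟶ E), w ≫ π = w' ≫ π → w ≫ q = w' ≫ q → w = w' :=
    fun w w' h1 h2 => Over.OverMorphism.ext
      (hsq'.hom_ext (congrArg (fun k => k.left) h1) (congrArg (fun k => k.left) h2))
  refine ⟨Qo, q, r, hqr, hsq', SchDesc.IsFpqc.of_isPullback hsq, ?_⟩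
  have hex : ∀ (s : PullbackCone q q), ∃ l : s.pt ⟶ G ⊗ E,
      l ≫ c.act = s.fst ∧ l ≫ snd G E = s.snd := fun s => by
    have h : (s.fst ≫ π) ≫ φ = (s.snd ≫ π) ≫ φ := by
      simp only [Category.assoc, ← hqr]
      rw [← Category.assoc, s.condition, Category.assoc]
    refine ⟨lift (div hcart (s.fst ≫ π) (s.snd ≫ π) h) s.snd, ?_, lift_snd _ _⟩
    apply hext
    · rw [lift_act_π π c hπ, div_act]
    · rw [Category.assoc, hinv, lift_snd_assoc, s.condition]
  choose l hl₁ hl₂ using hex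
  refine IsPullback.of_isLimit' ⟨hinv⟩ (PullbackCone.IsLimit.mk hinv l hl₁ hl₂ fun s m h₁ h₂ => ?_)
  have aux : ∀ m : s.pt ⟶ G ⊗ E, m ≫ c.act = s.fst → m ≫ snd G E = s.snd →
      m = lift (div hcart (s.fst ≫ π) (s.snd ≫ π) (by
        simp only [Category.assoc, ← hqr]
        rw [← Category.assoc, s.condition, Category.assoc])) s.snd := fun m h₁ h₂ => by
    have e : m = lift (m ≫ fst G E) s.snd := by
      rw [← h₂, ← comp_lift, lift_fst_snd, Category.comp_id]
    have e' : lift (m ≫ fst G E) s.snd ≫ c.act = s.fst := by rw [← e, h₁]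
    refine e.trans ?_
    congr 1
    refine (div_eq hcart _ _ _ _ ?_).symm
    rw [← lift_act_π π c hπ, e']
  exact (aux m h₁ h₂).trans (aux (l s) (hl₁ s) (hl₂ s)).symm

variable [IsAffineHom π.left]

include hcart hπ in
/-- The quotient of `E` by the group: `E` descends along the torsor. -/
theorem exists_quotient :
    ∃ (Q : Over S) (q : E ⟶ Q) (r : Q ⟶ Y), q ≫ r = π ≫ φ ∧
      IsPullback π.left q.left φ.left r.left ∧ SchDesc.IsFpqc q.left ∧
      IsPullback c.act (snd G E) q q := by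
  let D := datum hcart π c hπ
  obtain ⟨Q⟩ := SchDesc.quot_top_of_affine @IsAffineHom
    (fun f g hf => MorphismProperty.pullback_snd (P := @IsAffineHom) f g hf) D
    (inferInstanceAs (IsAffineHom π.left))
    fun Q U l q i hQ hU hl hl' _ _ _ _ D' hD' => by
      haveI : IsAffine D'.obj.left := isAffine_of_isAffineHom D'.obj.hom
      exact SchDesc.quot_of_quasiAffine D'
  exact exists_quotient_of_quot hcart π c hπ Q

/-- The projection to the first factor intertwines the diagonal action. -/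
theorem prod_act_fst {X' F : Over S} (a' : AlgGrp.Action G X') (b : AlgGrp.Action G F) :
    (a'.prod b).act ≫ fst X' F = (G ◁ fst X' F) ≫ a'.act := by
  simp [AlgGrp.Action.prod]

theorem isAffineHom_fst (X' F : Over S) [IsAffineHom F.hom] : IsAffineHom (fst X' F).left :=
  MorphismProperty.pullback_fst (P := @IsAffineHom) X'.hom F.hom ‹_›

end Groth.Agent.AssocBundle
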