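import Groth.Agent.AssocBundleLib.Square
import Groth.Agent.NormalSch.SectionExt
import Groth.Agent.PrincBundLib.GenericExt
import Groth.Agent.PrincBundLib.Invariant
import Groth.Agent.PrincBundLib.Descends
import Groth.Agent.PrincBundLib.Trivial
import Groth.Agent.FpqcDesc.Basic
import Groth.Agent.ASp.Fpqc

/-!
# Extending an isomorphism of finite torsors over a normal integral base
-/

set_option autoImplicit false
set_option linter.style.haveILetI false
set_option backward.isDefEq.respectTransparency false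
set_option backward.isDefEq.respectTransparency.types false

universe u

open CategoryTheory CategoryTheory.Limits MonoidalCategory CartesianMonoidalCategory MonObj
  AlgebraicGeometry

noncomputable section

namespace Groth.Agent.AssocBundle

variable {X : Scheme.{u}} {G : Over X} [GrpObj G]

theorem isPullback_of_pseudoTorsor {A : Over X} (a : AlgGrp.Action G A)
    (h : NonAbH1.IsPseudoTorsorSch a) :
    IsPullback a.act (snd G A) (toUnit A) (toUnit A) := by
  haveI : IsIso (lift a.act (snd G A)) := h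
  let Φ := lift a.act (snd G A)
  have h1 : inv Φ ≫ a.act = fst A A := by rw [IsIso.inv_comp_eq, lift_fst]
  have h2 : inv Φ ≫ snd G A = snd A A := by rw [IsIso.inv_comp_eq, lift_snd]
  refine IsPullback.of_isLimit' ⟨toUnit_unique _ _⟩ (PullbackCone.IsLimit.mk (toUnit_unique _ _)
    (fun s => lift s.fst s.snd ≫ inv Φ) (fun s => by rw [Category.assoc, h1, lift_fst])
    (fun s => by rw [Category.assoc, h2, lift_snd]) fun s m e₁ e₂ => ?_)
  rw [IsIso.eq_comp_inv, comp_lift, e₁, e₂]

theorem equivIso_of_equivIso_opens [AlgebraicGeometry.IsIntegral X] (hX : Pi1.IsNormalScheme X)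
    {K : Precoverage Scheme.{u}} [K.IsStableUnderBaseChange] (P P' : NonAbH1.TorsorSch G K)
    (hP : NonAbH1.IsTorsorFor Scheme.fpqcPrecoverage P.act)
    (hP' : NonAbH1.IsTorsorFor Scheme.fpqcPrecoverage P'.act)
    [IsFinite P.X.hom] [IsFinite P'.X.hom] [Flat P.X.hom] [Surjective P.X.hom]
    (U : X.Opens) (hU : Dense (U : Set X))
    (φ : NonAbH1.EquivIso (P.bc U.ι).act (P'.bc U.ι).act) :
    Nonempty (NonAbH1.EquivIso P.act P'.act) := by
  have hcart := isPullback_of_pseudoTorsor P.act hP.1
  haveI : SchDesc.IsFpqc (toUnit P.X).left := SchDesc.IsFpqc.of_quasiCompact P.X.hom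
  haveI : IsAffineHom P'.X.hom := inferInstance
  haveI := isAffineHom_fst P.X P'.X
  let c := P.act.prod P'.act
  obtain ⟨Q, q, r, hqr, hsq, hq, hc⟩ := exists_quotient hcart (fst P.X P'.X) c (prod_act_fst P.act P'.act)
  have hsq' : IsPullback (fst P.X P'.X) q (toUnit P.X) r := IsPullback.of_map_of_faithful (Over.forget _) hsq
  have hQ : IsFinite Q.hom := by
    haveI : IsFinite (fst P.X P'.X).left := MorphismProperty.pullback_fst (P := @IsFinite) P.X.hom P'.X.hom ‹_›
    have e : pullback.snd r.left (toUnit P.X).left =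
        (pullbackSymmetry r.left (toUnit P.X).left).hom ≫ hsq.isoPullback.inv ≫ (fst P.X P'.X).left := by
      rw [hsq.isoPullback_inv_fst, pullbackSymmetry_hom_comp_fst]
    have hr : IsFinite r.left :=
      TorsorDesc.prop_of_isFpqc @IsFinite FpqcDesc.isFinite_descends r.left (toUnit P.X).left
        (by rw [e]; infer_instance)
    have hr' : r.left = Q.hom := (Category.comp_id _).symm.trans (Over.w r)
    exact hr' ▸ hr
  -- the section over `U`
  let V := PrincBundLib.pullObj P.X U.ι
  let t : V.left ⟶ (U : Scheme.{u}) := pullback.snd P.X.hom U.ι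
  have ht : t ≫ U.ι = V.hom := pullback.condition.symm
  let p : V ⟶ P.X := PrincBundLib.pullTo P.X U.ι
  let ψU : V ⟶ P'.X := PrincBundLib.transp U.ι φ.iso.hom V t ht p
  let Uo : Over X := Over.mk U.ι
  let f : V ⟶ Uo := Over.homMk t ht
  haveI : SchDesc.IsFpqc P.X.hom := SchDesc.IsFpqc.of_quasiCompact P.X.hom
  haveI : SchDesc.IsFpqc f.left := SchDesc.IsFpqc.of_isPullback
    (g' := pullback.fst P.X.hom U.ι) (p := P.X.hom) (g := U.ι) (IsPullback.of_hasPullback P.X.hom U.ι)
  obtain ⟨sU, -⟩ := TorsorPush.exists_desc f (lift p ψU ≫ q) fun Y a b hab => by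
    let t' : Y.left ⟶ (U : Scheme.{u}) := a.left ≫ t
    have ht' : t' ≫ U.ι = Y.hom := by rw [Category.assoc, ht, Over.w a]
    let g := div hcart (a ≫ p) (b ≫ p) (toUnit_unique _ _)
    have hg : lift g (b ≫ p) ≫ P.act.act = a ≫ p := div_act hcart _ _ _
    have ea : a ≫ ψU = lift g (b ≫ ψU) ≫ P'.act.act := by
      show a ≫ PrincBundLib.transp U.ι φ.iso.hom V t ht p = _
      rw [← PrincBundLib.transp_comp U.ι φ.iso.hom a t ht t' ht' p, ← hg,
        PrincBundLib.transp_act U.ι φ.iso.hom φ.comm Y t' ht' g (b ≫ p),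
        PrincBundLib.transp_comp U.ι φ.iso.hom b t ht t' ht' p]
    have e : a ≫ lift p ψU = lift g (b ≫ lift p ψU) ≫ c.act := by
      rw [comp_lift, ea, ← hg]
      simp [c, AlgGrp.Action.prod]
    rw [← Category.assoc, e, Category.assoc, hc.w, lift_snd_assoc, Category.assoc]
  -- extension of the section
  have hgp : genericPoint X ∈ U := by
    obtain ⟨x, hx⟩ := hU.nonempty
    exact ((genericPoint_spec X).specializes trivial).mem_open U.2 hx
  let j : Spec (X.presheaf.stalk (genericPoint X)) ⟶ (U : Scheme.{u}) :=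
    IsOpenImmersion.lift U.ι (X.fromSpecStalk (genericPoint X)) (by
      rw [Scheme.Opens.range_ι, Scheme.range_fromSpecStalk]
      exact fun y hy => hy.mem_open U.2 hgp)
  obtain ⟨s₀, hs₀, -⟩ := NormalSch.exists_section_of_isIntegralHom hX Q.hom (j ≫ sU.left) (by
    rw [Category.assoc, Over.w sU]
    exact IsOpenImmersion.lift_fac _ _ _)
  let s : 𝟙_ (Over X) ⟶ Q := Over.homMk s₀ hs₀
  -- the morphism
  let σ : P.X ⟶ P.X ⊗ P'.X := hsq'.lift (𝟙 P.X) (toUnit P.X ≫ s) (toUnit_unique _ _)
  have hσ : P.act.act ≫ σ = (G ◁ σ) ≫ c.act := by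
    apply hsq'.hom_ext
    · rw [Category.assoc, hsq'.lift_fst, Category.comp_id, Category.assoc, prod_act_fst,
        ← MonoidalCategory.whiskerLeft_comp_assoc, hsq'.lift_fst, MonoidalCategory.whiskerLeft_id,
        Category.id_comp]
    · rw [Category.assoc, hsq'.lift_snd, Category.assoc, hc.w, CartesianMonoidalCategory.whiskerLeft_snd_assoc,
        hsq'.lift_snd, ← Category.assoc, ← Category.assoc, toUnit_unique (P.act.act ≫ toUnit P.X) (snd G P.X ≫ toUnit P.X)]
  let ψ : P.X ⟶ P'.X := σ ≫ snd P.X P'.X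
  have hψ : P.act.act ≫ ψ = (G ◁ ψ) ≫ P'.act.act := by
    rw [← Category.assoc, hσ, Category.assoc, MonoidalCategory.whiskerLeft_comp_assoc]
    simp [c, AlgGrp.Action.prod]
  haveI := PrincBundLib.isIso_of_isEquivariant P.act P'.act hP hP' ψ hψ
  exact ⟨⟨asIso ψ, hψ⟩⟩

end Groth.Agent.AssocBundle
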