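import Groth.Agent.AssocBundleLib.Basic
import Groth.Agent.TorsorPushLib.Main
import Groth.Agent.ArtGrpLib.SubQuot
import Groth.Agent.GenFin.Scheme
import Groth.Agent.GrpSchLib.Component
import Groth.Agent.S0412
import Groth.Agent.Unibranch.Open
import Groth.Agent.FpqcDesc.Stalk

/-!
# Homogeneous spaces over an algebraically closed field: finite étale multisections
-/

set_option autoImplicit false
set_option linter.style.haveILetI false
set_option backward.isDefEq.respectTransparency false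
set_option backward.isDefEq.respectTransparency.types false

universe u

open CategoryTheory CategoryTheory.Limits MonoidalCategory CartesianMonoidalCategory MonObj
  AlgebraicGeometry

noncomputable section

namespace Groth.Agent.AssocBundle

section General

variable {S : Scheme.{u}} {G H : Over S} [GrpObj G] [GrpObj H] (j : H ⟶ G) [IsMonHom j]

theorem lift_cosetAct_aux {T : Over S} (h : T ⟶ H) (g : T ⟶ G) :
    lift h g ≫ (snd H G * (fst H G ≫ j)⁻¹) = g * (h ≫ j)⁻¹ := by
  rw [MonObj.comp_mul, GrpObj.comp_inv, lift_snd, lift_fst_assoc]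

/-- `H` acting on `G` by `h • g = g * h⁻¹`. -/
def cosetAction : AlgGrp.Action H G where
  act := snd H G * (fst H G ≫ j)⁻¹
  one_act := by
    apply AlgGrp.Action.hom_ext_lift₂
    intro T u p
    have hu : u ≫ η[H] = 1 := by rw [Hom.one_def, toUnit_unique (toUnit T) u]
    rw [lift_whiskerRight_assoc, hu, lift_cosetAct_aux, MonObj.one_comp, inv_one, _root_.mul_one,
      leftUnitor_hom, lift_snd]
  mul_act := by
    apply AlgGrp.Action.hom_ext_lift₃
    intro T h h' x
    rw [lift_whiskerRight_assoc, ← Hom.mul_def, lift_lift_associator_hom_assoc, lift_whiskerLeft_assoc,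
      lift_cosetAct_aux, lift_cosetAct_aux, lift_cosetAct_aux, MonObj.mul_comp, mul_inv_rev, _root_.mul_assoc]

theorem lift_cosetAction {T : Over S} (h : T ⟶ H) (g : T ⟶ G) :
    lift h g ≫ (cosetAction j).act = g * (h ≫ j)⁻¹ := lift_cosetAct_aux j h g

/-- Passing from cosets `H g` to cosets `g H`. -/
theorem isPullback_cosetAction {X : Over S} (p : G ⟶ X)
    (hp : IsPullback ((j ▷ G) ≫ μ[G]) (snd H G) p p) :
    IsPullback (cosetAction j).act (snd H G) ((𝟙 G)⁻¹ ≫ p) ((𝟙 G)⁻¹ ≫ p) := by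
  have hii : (𝟙 G)⁻¹ ≫ (𝟙 G)⁻¹ = 𝟙 G := by rw [GrpObj.comp_inv, Category.comp_id, inv_inv]
  haveI : IsIso ((𝟙 G)⁻¹) := ⟨_, hii, hii⟩
  haveI : IsIso (H ◁ (𝟙 G)⁻¹) := inferInstance
  refine hp.of_iso (asIso (H ◁ (𝟙 G)⁻¹)) (asIso ((𝟙 G)⁻¹)) (asIso ((𝟙 G)⁻¹)) (Iso.refl _) ?_ ?_ ?_ ?_
  · apply AlgGrp.Action.hom_ext_lift₂
    intro T h g
    simp only [asIso_hom]
    rw [lift_whiskerLeft_assoc, lift_cosetAction, GrpObj.comp_inv, Category.comp_id]
    rw [GrpObj.comp_inv, lift_whiskerRight_assoc, ← Hom.mul_def, GrpObj.comp_inv, Category.comp_id, mul_inv_rev]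
  · simp
  · simp [reassoc_of% hii]
  · simp [reassoc_of% hii]

end General

section Field

variable {k : Type u} [Field k] [IsAlgClosed k] {G H B : Over (Spec (CommRingCat.of k))}
  [GrpObj G] [GrpObj H] [Smooth H.hom] (j : H ⟶ G) [IsMonHom j] {π : G ⟶ B}
  (hπ : IsPullback (cosetAction j).act (snd H G) π π) [SchDesc.IsFpqc π.left]

include hπ in
theorem smooth_of_coset : Smooth π.left := by
  have hl : IsPullback (cosetAction j).act.left (snd H G).left π.left π.left := hπ.map (Over.forget _)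
  haveI : Smooth (snd H G).left := MorphismProperty.pullback_snd (P := @Smooth) H.hom G.hom ‹_›
  refine TorsorDesc.prop_of_isFpqc @Smooth inferInstance π.left π.left ?_
  rw [← hl.isoPullback_inv_snd]
  infer_instance

include hπ in
/-- Left translation descends to the quotient. -/
theorem exists_translation (g₀ : 𝟙_ (Over (Spec (CommRingCat.of k))) ⟶ G) :
    ∃ t : B ≅ B, π ≫ t.hom = ((toUnit G ≫ g₀) * 𝟙 G) ≫ π := by
  have key : ∀ g₁ : 𝟙_ (Over (Spec (CommRingCat.of k))) ⟶ G,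
      ∃ t : B ⟶ B, π ≫ t = ((toUnit G ≫ g₁) * 𝟙 G) ≫ π := fun g₁ =>
    TorsorPush.exists_desc π _ fun Y a b hab => by
      obtain ⟨h, hh⟩ : ∃ h : Y ⟶ H, lift h b ≫ (cosetAction j).act = a :=
        ⟨hπ.lift a b hab ≫ fst H G, by
          have e : hπ.lift a b hab = lift (hπ.lift a b hab ≫ fst H G) b := by
            apply CartesianMonoidalCategory.hom_ext
            · rw [lift_fst]
            · rw [lift_snd, hπ.lift_snd]
          rw [← e, hπ.lift_fst]⟩
      rw [lift_cosetAction] at hh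
      subst hh
      rw [← Category.assoc, ← Category.assoc, MonObj.comp_mul, MonObj.comp_mul, Category.comp_id, Category.comp_id,
        ← Category.assoc, ← Category.assoc, toUnit_unique ((b * (h ≫ j)⁻¹) ≫ toUnit G) (b ≫ toUnit G),
        ← _root_.mul_assoc, ← lift_cosetAction j h ((b ≫ toUnit G) ≫ g₁ * b), Category.assoc, hπ.w,
        lift_snd_assoc]
  haveI : Epi π := TorsorPush.epi_of_isFpqc π
  have hcomp : ∀ (g₁ g₂ : 𝟙_ (Over (Spec (CommRingCat.of k))) ⟶ G) (t₁ t₂ : B ⟶ B),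
      π ≫ t₁ = ((toUnit G ≫ g₁) * 𝟙 G) ≫ π → π ≫ t₂ = ((toUnit G ≫ g₂) * 𝟙 G) ≫ π →
      g₂ * g₁ = 1 → t₁ ≫ t₂ = 𝟙 B := by
    intro g₁ g₂ t₁ t₂ h₁ h₂ e
    rw [← cancel_epi π, ← Category.assoc, h₁, Category.assoc, h₂, ← Category.assoc, MonObj.comp_mul,
      Category.comp_id, ← Category.assoc, toUnit_unique (((toUnit G ≫ g₁) * 𝟙 G) ≫ toUnit G) (toUnit G),
      ← _root_.mul_assoc, ← MonObj.comp_mul, e, MonObj.comp_one, _root_.one_mul, Category.id_comp,
      Category.comp_id]
  obtain ⟨t₁, h₁⟩ := key g₀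
  obtain ⟨t₂, h₂⟩ := key g₀⁻¹
  exact ⟨⟨t₁, t₂, hcomp _ _ _ _ h₁ h₂ (inv_mul_cancel _), hcomp _ _ _ _ h₂ h₁ (mul_inv_cancel _)⟩, h₁⟩

/-- A finite étale multisection of `G ⟶ B` over an affine open. -/
def HasMultisection (π : G ⟶ B) (U : B.left.Opens) : Prop :=
  ∃ (U' : Scheme.{u}) (φ : U' ⟶ U) (s : U' ⟶ G.left),
    IsFinite φ ∧ Etale φ ∧ Surjective φ ∧ s ≫ π.left = φ ≫ U.ι

variable [Smooth G.hom] [QuasiCompact G.hom] [ConnectedSpace ↥G.left] [IsSeparated B.hom]

include hπ in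
theorem exists_multisection [LocallyOfFiniteType B.hom] [QuasiCompact B.hom] (b : B.left) :
    ∃ U : B.left.Opens, b ∈ U ∧ IsAffineOpen U ∧ HasMultisection π U := by
  haveI := smooth_of_coset j hπ
  haveI : IrreducibleSpace G.left := GrpSchLib.irreducibleSpace_of_connectedSpace
  haveI : PreirreducibleSpace B.left := by
    refine ⟨?_⟩
    rw [← π.left.surjective.range_eq, ← Set.image_univ]
    exact (PreirreducibleSpace.isPreirreducible_univ (X := G.left)).image π.left π.left.continuous.continuousOn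
  haveI : Nonempty B.left := ⟨b⟩
  haveI : IrreducibleSpace B.left := ⟨inferInstance⟩
  let η₀ : B.left := genericPoint B.left
  obtain ⟨S', e, x', he, hx', l, hl⟩ := S0412.result π.left η₀ (π.left.surjective η₀)
  haveI := he
  obtain ⟨_, ⟨W : S'.Opens, hW, rfl⟩, hxW, -⟩ :=
    S'.isBasis_affineOpens.exists_subset_of_mem_open (Set.mem_univ x') isOpen_univ
  haveI : IsAffine W.toScheme := hW
  let e' : W.toScheme ⟶ B.left := W.ι ≫ e
  haveI : QuasiSeparatedSpace B.left := quasiSeparatedSpace_of_quasiSeparated B.hom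
  haveI : QuasiCompact (e' ≫ B.hom) := inferInstance
  haveI : QuasiCompact e' := QuasiCompact.of_comp e' B.hom
  obtain ⟨V, hV, hηV, hfin⟩ := GenFin.exists_isFinite e' η₀
    (fun y hy => (hy.antisymm ((genericPoint_spec B.left).specializes trivial)).eq)
    (haveI := Groth.Agent.Unibranch.locallyQuasiFinite_of_etale e'; e'.finite_preimage_singleton η₀)
  haveI := hfin
  have hV' : HasMultisection π V := by
    refine ⟨_, e' ∣_ V, (e' ⁻¹ᵁ V).ι ≫ W.ι ≫ l, hfin, inferInstance, ?_, ?_⟩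
    · have hop : IsClopen (Set.range (e' ∣_ V)) :=
        ⟨(e' ∣_ V).isClosedMap.isClosed_range, (e' ∣_ V).isOpenMap.isOpen_range⟩
      haveI : PreirreducibleSpace V.toScheme := V.ι.isOpenEmbedding.preirreducibleSpace
      haveI : PreconnectedSpace V.toScheme := inferInstance
      refine ⟨Set.range_eq_univ.mp ((isClopen_iff.mp hop).resolve_left ?_)⟩
      exact Set.nonempty_iff_ne_empty.mp ⟨_, ⟨⟨x', hxW⟩, show e' ⟨x', hxW⟩ ∈ V by
        rw [Scheme.Hom.comp_apply]; exact hx'.symm ▸ hηV⟩, rfl⟩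
    · rw [morphismRestrict_ι, Category.assoc, Category.assoc, hl]
  haveI : JacobsonSpace B.left := LocallyOfFiniteType.jacobsonSpace B.hom
  haveI : CompactSpace B.left := (quasiCompact_iff_compactSpace B.hom).mp inferInstance
  haveI : LocallyOfFiniteType G.hom := inferInstance
  haveI : JacobsonSpace G.left := LocallyOfFiniteType.jacobsonSpace G.hom
  obtain ⟨b₁, hb₁, hb₁c⟩ : ∃ b₁ ∈ closure ({b} : Set B.left), b₁ ∈ closedPoints B.left :=
    (nonempty_inter_closedPoints (Set.Nonempty.closure (Set.singleton_nonempty b))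
      isClosed_closure.isLocallyClosed)
  obtain ⟨b₀, hb₀, hb₀c⟩ : ∃ b₀ ∈ (V : Set B.left), b₀ ∈ closedPoints B.left :=
    (nonempty_inter_closedPoints ⟨η₀, hηV⟩ V.2.isLocallyClosed)
  have hpt : ∀ c : B.left, c ∈ closedPoints B.left → ∃ g : 𝟙_ (Over (Spec (CommRingCat.of k))) ⟶ G,
      (g ≫ π).left (IsLocalRing.closedPoint k) = c := by
    intro c hc
    have hc' : IsClosed (π.left ⁻¹' {c}) := (show IsClosed {c} from hc).preimage π.left.continuous
    obtain ⟨x, hx, hxc⟩ := nonempty_inter_closedPoints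
      (show (π.left ⁻¹' {c}).Nonempty from π.left.surjective c) hc'.isLocallyClosed
    refine ⟨Over.homMk (pointOfClosedPoint G.hom x hxc) (pointOfClosedPoint_comp _ _ _), ?_⟩
    rw [Over.comp_left, Scheme.Hom.comp_apply]
    exact (congrArg π.left (pointOfClosedPoint_apply G.hom x hxc _)).trans hx
  obtain ⟨g₁, hg₁⟩ := hpt b₁ hb₁c
  obtain ⟨g₀, hg₀⟩ := hpt b₀ hb₀c
  obtain ⟨t, ht⟩ := exists_translation j hπ (g₁ * g₀⁻¹)
  haveI : IsIso t.hom.left := inferInstanceAs (IsIso ((Over.forget _).map t.hom))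
  have htb : t.hom.left b₀ = b₁ := by
    have h1 : (g₀ ≫ π) ≫ t.hom = g₁ ≫ π := by
      rw [Category.assoc, ht, ← Category.assoc, MonObj.comp_mul, Category.comp_id, ← Category.assoc,
        toUnit_unique (g₀ ≫ toUnit G) (𝟙 _), Category.id_comp, inv_mul_cancel_right]
    rw [← hg₀, ← hg₁, ← h1]
    exact (Scheme.Hom.comp_apply _ _ _).symm
  refine ⟨t.hom.left ''ᵁ V, ?_, hV.image_of_isOpenImmersion _, ?_⟩
  · exact (specializes_iff_mem_closure.mpr hb₁).mem_open (t.hom.left ''ᵁ V).2 ⟨b₀, hb₀, htb⟩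
  obtain ⟨U', φ, s, hφf, hφe, hφs, hs⟩ := hV'
  haveI := hφf; haveI := hφe; haveI := hφs
  refine ⟨U', φ ≫ (t.hom.left.isoImage V).hom, s ≫ ((toUnit G ≫ (g₁ * g₀⁻¹)) * 𝟙 G).left,
    inferInstance, inferInstance, inferInstance, ?_⟩
  rw [Category.assoc, ← Over.comp_left, ← ht, Over.comp_left, reassoc_of% hs, Category.assoc,
    Scheme.Hom.isoImage_hom_ι]

include hπ in
theorem isReduced_quot [IsReduced G.left] : IsReduced B.left := by
  haveI : Flat π.left := inferInstance
  haveI : Surjective π.left := inferInstance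
  exact FlatDescStalk.isReduced_of_flat_surjective π.left

end Field

/-- The quotient of a smooth group by a closed subgroup, for cosets `g H`. -/
theorem exists_coset_quotient {k : Type u} [Field k] {G H : Over (Spec (CommRingCat.of k))}
    [GrpObj G] [GrpObj H] [Smooth G.hom] [QuasiCompact G.hom] [Smooth H.hom] (j : H ⟶ G) [IsMonHom j]
    [IsClosedImmersion j.left] :
    ∃ (B : Over (Spec (CommRingCat.of k))) (π : G ⟶ B), IsSeparated B.hom ∧ LocallyOfFiniteType B.hom ∧
      QuasiCompact B.hom ∧ SchDesc.IsFpqc π.left ∧ LocallyOfFinitePresentation π.left ∧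
      IsPullback (cosetAction j).act (snd H G) π π := by
  haveI : LocallyOfFiniteType G.hom := inferInstance
  obtain ⟨B, p, hsep, hlft, hs, hf, hp, hsq, -, hqc, -⟩ := ArtGrpLib.exists_quotient_sub j
  haveI := hsep; haveI := hlft; haveI := hs; haveI := hf; haveI := hp
  have hii : (𝟙 G)⁻¹ ≫ (𝟙 G)⁻¹ = 𝟙 G := by rw [GrpObj.comp_inv, Category.comp_id, inv_inv]
  haveI : IsIso ((𝟙 G)⁻¹) := ⟨_, hii, hii⟩
  haveI : IsIso ((𝟙 G)⁻¹).left := inferInstanceAs (IsIso ((Over.forget _).map _))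
  refine ⟨B, (𝟙 G)⁻¹ ≫ p, hsep, hlft, hqc inferInstance, ?_, ?_, isPullback_cosetAction j p hsq⟩
  · rw [Over.comp_left]
    haveI : LocallyOfFinitePresentation (((𝟙 G)⁻¹).left ≫ p.left) := inferInstance
    exact SchDesc.IsFpqc.of_locallyOfFinitePresentation _
  · rw [Over.comp_left]; infer_instance

end Groth.Agent.AssocBundle
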