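import Groth.Agent.AssocBundleLib.Square
import Groth.Agent.AssocBundleLib.Homog
import Groth.Agent.SchDesc.Finite
import Groth.Agent.SchDesc.Glue

/-!
# The associated bundle of a homogeneous space, for fibres with finite sets in affine opens
-/

set_option autoImplicit false
set_option linter.style.haveILetI false
set_option backward.isDefEq.respectTransparency false
set_option backward.isDefEq.respectTransparency.types false

universe u

open CategoryTheory CategoryTheory.Limits MonoidalCategory CartesianMonoidalCategory MonObj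
  AlgebraicGeometry

noncomputable section

namespace Groth.Agent.AssocBundle

/-- The pullback of a torsor along a map to its base with a lift is trivial. -/
theorem isPullback_trivial {S : Scheme.{u}} {G E Q : Over S} [GrpObj G] {c : AlgGrp.Action G E} {q : E ⟶ Q}
    (hc : IsPullback c.act (snd G E) q q) {T : Over S} (x : T ⟶ E) :
    IsPullback (fst T G) (lift (snd T G) (fst T G ≫ x) ≫ c.act) (x ≫ q) q := by
  have hw : fst T G ≫ x ≫ q = (lift (snd T G) (fst T G ≫ x) ≫ c.act) ≫ q := by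
    rw [Category.assoc, hc.w, lift_snd_assoc, Category.assoc]
  have hs : ∀ s : PullbackCone (x ≫ q) q, s.snd ≫ q = (s.fst ≫ x) ≫ q := fun s => by
    rw [Category.assoc, ← s.condition]
  refine IsPullback.of_isLimit' ⟨hw⟩ (PullbackCone.IsLimit.mk hw
    (fun s => lift s.fst (div hc s.snd (s.fst ≫ x) (hs s)))
    (fun s => lift_fst _ _) (fun s => ?_) fun s m h₁ h₂ => ?_)
  · rw [comp_lift_assoc, lift_snd, lift_fst_assoc, div_act]
  · have e : m = lift s.fst (m ≫ snd T G) := by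
      rw [← h₁, ← comp_lift, lift_fst_snd, Category.comp_id]
    refine e.trans ?_
    congr 1
    refine (div_eq hc _ _ _ _ ?_).symm
    rw [← h₂, ← h₁, comp_lift_assoc, Category.assoc]

variable {k : Type u} [Field k] {G H B X : Over (Spec (CommRingCat.of k))}
  [GrpObj H] {r : AlgGrp.Action H G} {π : G ⟶ B}
  (hπ : IsPullback r.act (snd H G) π π) (c : AlgGrp.Action H (G ⊗ X))
  (hc : c.act ≫ fst G X = (H ◁ fst G X) ≫ r.act) [SchDesc.IsFpqc π.left]

include hπ hc in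
/-- Finite étale multisections and affine neighbourhoods of finite sets give the quotient. -/
theorem nonempty_quot
    (hms : ∀ b : B.left, ∃ U : B.left.Opens, b ∈ U ∧ IsAffineOpen U ∧
      ∃ (U' : Scheme.{u}) (φ : U' ⟶ U) (s : U' ⟶ G.left),
        IsFinite φ ∧ Etale φ ∧ Surjective φ ∧ s ≫ π.left = φ ≫ U.ι)
    (hF : ∀ F : Finset ↥X.left, ∃ U : X.left.Opens, IsAffineOpen U ∧ (↑F : Set ↥X.left) ⊆ (U : Set ↥X.left)) :
    Nonempty (SchDesc.Quot (datum hπ (fst G X) c hc) ⊤) := by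
  classical
  let D := datum hπ (fst G X) c hc
  refine SchDesc.quot_top fun v => ?_
  obtain ⟨U, hv, hU, U', φ, s, hφf, hφe, hφs, hs⟩ := hms (π.left (D.obj.hom v))
  haveI := hφf; haveI := hφe; haveI := hφs
  refine ⟨D.obj.hom ⁻¹ᵁ π.left ⁻¹ᵁ U, hv, ?_⟩
  haveI : IsAffine U.toScheme := hU
  haveI : IsAffine U' := isAffine_of_isAffineHom φ
  haveI : SchDesc.IsFpqc (π.left ∣_ U) := SchDesc.IsFpqc.of_isPullback (isPullback_morphismRestrict π.left U).flip
  let q' : U' ⟶ (π.left ⁻¹ᵁ U : Scheme.{u}) := IsOpenImmersion.lift (π.left ⁻¹ᵁ U).ι s (by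
    rintro _ ⟨z, rfl⟩
    rw [Scheme.Opens.range_ι]
    show π.left (s z) ∈ U
    rw [← Scheme.Hom.comp_apply, hs, Scheme.Hom.comp_apply]
    exact (φ z).2)
  have hq' : q' ≫ (π.left ⁻¹ᵁ U).ι = s := IsOpenImmersion.lift_fac _ _ _
  have hl₀ : q' ≫ (π.left ∣_ U) = φ := by
    rw [← cancel_mono U.ι, Category.assoc, morphismRestrict_ι, reassoc_of% hq', hs]
  haveI : IsFinite (q' ≫ (π.left ∣_ U)) := hl₀ ▸ hφf
  haveI : Etale (q' ≫ (π.left ∣_ U)) := hl₀ ▸ hφe
  haveI : Surjective (q' ≫ (π.left ∣_ U)) := hl₀ ▸ hφs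
  haveI : Flat (q' ≫ (π.left ∣_ U)) := inferInstance
  haveI : LocallyOfFinitePresentation (q' ≫ (π.left ∣_ U)) := inferInstance
  haveI : SchDesc.IsFpqc (q' ≫ (π.left ∣_ U)) := SchDesc.IsFpqc.of_quasiCompact _
  let w₀ := (morphismRestrict_ι π.left U).symm
  let D₀ := SchDesc.pull D (π.left ⁻¹ᵁ U).ι w₀
  let wq : q' ≫ (π.left ∣_ U) = (q' ≫ (π.left ∣_ U)) ≫ 𝟙 _ := (Category.comp_id _).symm
  let D₁ := SchDesc.pull D₀ q' wq
  let ρ : D₁.obj.left ⟶ X.left := SchDesc.pullFst D₀ q' wq ≫ SchDesc.pullFst D (π.left ⁻¹ᵁ U).ι w₀ ≫ (snd G X).left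
  have h1 : IsPullback (SchDesc.pullFst D₀ q' wq) D₁.obj.hom D₀.obj.hom q' := SchDesc.isPullback_pull D₀ q' wq
  have h2 : IsPullback (SchDesc.pullFst D (π.left ⁻¹ᵁ U).ι w₀) D₀.obj.hom D.obj.hom (π.left ⁻¹ᵁ U).ι :=
    SchDesc.isPullback_pull D (π.left ⁻¹ᵁ U).ι w₀
  have h3 : IsPullback (snd G X).left (fst G X).left X.hom G.hom := (IsPullback.of_hasPullback G.hom X.hom).flip
  have hρ : IsPullback ρ D₁.obj.hom X.hom (q' ≫ (π.left ⁻¹ᵁ U).ι ≫ G.hom) :=
    h1.paste_horiz (h2.paste_horiz h3)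
  haveI : IsAffineHom ρ := MorphismProperty.of_isPullback (P := @IsAffineHom) hρ.flip inferInstance
  obtain ⟨Q₁⟩ := SchDesc.quot_of_affine_orbits (p := q' ≫ (π.left ∣_ U)) (D := D₁) fun v₁ => by
    obtain ⟨V, hV, hVF⟩ := hF ((SchDesc.finite_orbit D₁ v₁).toFinset.image fun w => ρ w)
    refine ⟨ρ ⁻¹ᵁ V, hV.preimage ρ, fun t ht => hVF ?_⟩
    exact Finset.mem_coe.mpr (Finset.mem_image.mpr ⟨_, (SchDesc.finite_orbit D₁ v₁).mem_toFinset.mpr ⟨t, ht, rfl⟩, rfl⟩)
  obtain ⟨Q₀⟩ := SchDesc.quot_of_pull_comp D₀ q' Q₁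
  exact SchDesc.quot_of_pull_open D U Q₀

end Groth.Agent.AssocBundle
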