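import Groth.Agent.AssocBundleLib.Basic
import Groth.Agent.TorsorPushLib.Main
import Groth.Prelude.Def_W4bk4git07Quot

/-!
# An equivariant morphism of torsors gives a cartesian square
-/

set_option autoImplicit false
set_option linter.style.haveILetI false
set_option backward.isDefEq.respectTransparency false
set_option backward.isDefEq.respectTransparency.types false

universe u

open CategoryTheory CategoryTheory.Limits MonoidalCategory CartesianMonoidalCategory MonObj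
  AlgebraicGeometry

noncomputable section

namespace Groth.Agent.AssocBundle

variable {S : Scheme.{u}} {G X Y E : Over S} [GrpObj G] {a : AlgGrp.Action G X} {φ : X ⟶ Y}

theorem isPullback_of_isIso_psiY (a : AlgGrp.Action G X) (φ : X ⟶ Y) (hinv : GIT.IsInvariant a φ)
    [IsIso (GIT.PsiY a φ hinv)] : IsPullback a.act (snd G X) φ φ := by
  have hl : IsPullback a.act.left (snd G X).left φ.left φ.left :=
    IsPullback.of_iso_pullback ⟨hinv.left⟩ (asIso (GIT.PsiY a φ hinv))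
      (pullback.lift_fst _ _ _) (pullback.lift_snd _ _ _)
  exact IsPullback.of_map_of_faithful (Over.forget _) hl

theorem exists_fpqc_lift {T : Over S} {A B : Over S} (p : A ⟶ B) [SchDesc.IsFpqc p.left] (t : T ⟶ B) :
    ∃ (T' : Over S) (k : T' ⟶ T) (g : T' ⟶ A), SchDesc.IsFpqc k.left ∧ g ≫ p = k ≫ t := by
  let P := pullback p.left t.left
  have hw : (pullback.fst p.left t.left) ≫ A.hom = pullback.snd p.left t.left ≫ T.hom := by
    rw [← Over.w p, ← Category.assoc, pullback.condition, Category.assoc, Over.w t]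
  let T' : Over S := Over.mk (pullback.snd p.left t.left ≫ T.hom)
  refine ⟨T', Over.homMk (pullback.snd p.left t.left) rfl, Over.homMk (pullback.fst p.left t.left) hw,
    SchDesc.IsFpqc.of_isPullback (IsPullback.of_hasPullback p.left t.left), ?_⟩
  exact Over.OverMorphism.ext pullback.condition

variable (hcart : IsPullback a.act (snd G X) φ φ) {π : E ⟶ X} {c : AlgGrp.Action G E}
  (hπ : c.act ≫ π = (G ◁ π) ≫ a.act) {Q : Over S} {q : E ⟶ Q} {r : Q ⟶ Y}

include hcart hπ in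
/-- An equivariant morphism of torsors gives a cartesian square. -/
theorem isPullback_of_torsors [SchDesc.IsFpqc q.left] (hc : IsPullback c.act (snd G E) q q)
    (hr : q ≫ r = π ≫ φ) : IsPullback π q φ r := by
  have huniq : ∀ {T : Over S} (w w' : T ⟶ E), w ≫ π = w' ≫ π → w ≫ q = w' ≫ q → w = w' := by
    intro T w w' h1 h2
    let g := div hc w w' h2
    have hg : lift g w' ≫ c.act = w := div_act hc w w' h2
    have e1 : div hcart (w' ≫ π) (w' ≫ π) rfl = g :=
      div_eq hcart _ _ rfl g (by rw [← lift_act_π π c hπ, hg, h1])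
    have e2 : g = 1 := e1.symm.trans (div_eq hcart _ _ rfl 1 (AlgGrp.Action.lift_one_act _ _))
    rw [← hg, e2, AlgGrp.Action.lift_one_act]
  have hex : ∀ (s : PullbackCone φ r), ∃ w : s.pt ⟶ E, w ≫ π = s.fst ∧ w ≫ q = s.snd := fun s => by
    obtain ⟨T', k, e, hk, he⟩ := exists_fpqc_lift q s.snd
    haveI := hk
    have hy : (k ≫ s.fst) ≫ φ = (e ≫ π) ≫ φ := by
      rw [Category.assoc, Category.assoc, ← hr, ← Category.assoc e, he, Category.assoc, s.condition]
    let w' := mv hcart π c e (k ≫ s.fst) hy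
    have h1 : w' ≫ π = k ≫ s.fst := mv_π hcart π c hπ e _ hy
    have h2 : w' ≫ q = k ≫ s.snd := by
      rw [← he]
      simp only [w', mv, Category.assoc, hc.w, lift_snd_assoc]
    obtain ⟨w, hw⟩ := TorsorPush.exists_desc k w' fun Y a b hab => huniq _ _
      (by rw [Category.assoc, Category.assoc, h1, ← Category.assoc, hab, Category.assoc])
      (by rw [Category.assoc, Category.assoc, h2, ← Category.assoc, hab, Category.assoc])
    haveI := TorsorPush.epi_of_isFpqc k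
    exact ⟨w, by rw [← cancel_epi k, ← Category.assoc, hw, h1],
      by rw [← cancel_epi k, ← Category.assoc, hw, h2]⟩
  choose l hl₁ hl₂ using hex
  exact IsPullback.of_isLimit' ⟨hr.symm⟩ (PullbackCone.IsLimit.mk hr.symm l hl₁ hl₂
    fun s m h₁ h₂ => huniq _ _ (by rw [h₁, hl₁]) (by rw [h₂, hl₂]))

/-- The scheme-level square, from the data of geometric quotients. -/
theorem isPullback_of_geomQuots (a : AlgGrp.Action G X) (φ : X ⟶ Y) (hinv : GIT.IsInvariant a φ)
    [IsIso (GIT.PsiY a φ hinv)] (c : AlgGrp.Action G E) (q : E ⟶ Q) (hinv' : GIT.IsInvariant c q)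
    [IsIso (GIT.PsiY c q hinv')] [SchDesc.IsFpqc q.left] (π : E ⟶ X)
    (hπ : c.act ≫ π = (G ◁ π) ≫ a.act) (r : Q ⟶ Y) (hr : q ≫ r = π ≫ φ) :
    IsPullback π.left q.left φ.left r.left :=
  (isPullback_of_torsors (isPullback_of_isIso_psiY a φ hinv) hπ (isPullback_of_isIso_psiY c q hinv') hr).map
    (Over.forget S)

theorem isFpqc_quot {A B : Over S} [QuasiCompact A.hom] [IsSeparated B.hom] (p : A ⟶ B) [Flat p.left]
    (hs : Function.Surjective p.left.base) : SchDesc.IsFpqc p.left := by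
  haveI : QuasiCompact (p.left ≫ B.hom) := by rw [Over.w p]; infer_instance
  haveI : QuasiCompact p.left := QuasiCompact.of_comp p.left B.hom
  haveI : Surjective p.left := ⟨hs⟩
  exact SchDesc.IsFpqc.of_quasiCompact p.left

theorem quasiCompact_tensor (A B : Over S) [QuasiCompact A.hom] [QuasiCompact B.hom] :
    QuasiCompact (A ⊗ B).hom := by
  rw [← Over.w (fst A B)]
  haveI : QuasiCompact (fst A B).left :=
    MorphismProperty.pullback_fst (P := @QuasiCompact) A.hom B.hom inferInstance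
  infer_instance

section Assoc

variable {H G₀ B F QF : Over S} [GrpObj H] [GrpObj G₀] {j : H ⟶ G₀}

theorem equivariant_fst (r : AlgGrp.Action H G₀)
    (hr : ∀ (T : Over S) (h : T ⟶ H) (g : T ⟶ G₀), lift h g ≫ r.act = g * (h ≫ j)⁻¹)
    (aF : AlgGrp.Action H F) (b : AlgGrp.Action H (G₀ ⊗ F))
    (hb : ∀ (T : Over S) (h : T ⟶ H) (g : T ⟶ G₀) (x : T ⟶ F),
      lift h (lift g x) ≫ b.act = lift (g * (h ≫ j)⁻¹) (lift h x ≫ aF.act)) :
    b.act ≫ fst G₀ F = (H ◁ fst G₀ F) ≫ r.act := by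
  have e : 𝟙 (H ⊗ (G₀ ⊗ F)) = lift (fst _ _) (lift (snd H (G₀ ⊗ F) ≫ fst G₀ F) (snd H (G₀ ⊗ F) ≫ snd G₀ F)) := by
    rw [← comp_lift, lift_fst_snd, Category.comp_id, lift_fst_snd]
  rw [← Category.id_comp b.act, ← Category.id_comp (H ◁ fst G₀ F), e, hb, lift_fst, lift_whiskerLeft, hr,
    lift_fst]

/-- The associated bundle square `G × F → G`, `Q_F → B`. -/
theorem assoc_square (r : AlgGrp.Action H G₀)
    (hr : ∀ (T : Over S) (h : T ⟶ H) (g : T ⟶ G₀), lift h g ≫ r.act = g * (h ≫ j)⁻¹)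
    (π : G₀ ⟶ B) (hπinv : GIT.IsInvariant r π) [IsIso (GIT.PsiY r π hπinv)]
    (aF : AlgGrp.Action H F) (b : AlgGrp.Action H (G₀ ⊗ F))
    (hb : ∀ (T : Over S) (h : T ⟶ H) (g : T ⟶ G₀) (x : T ⟶ F),
      lift h (lift g x) ≫ b.act = lift (g * (h ≫ j)⁻¹) (lift h x ≫ aF.act))
    (q : G₀ ⊗ F ⟶ QF) (hqinv : GIT.IsInvariant b q) [IsIso (GIT.PsiY b q hqinv)] [SchDesc.IsFpqc q.left]
    (p : QF ⟶ B) (hp : q ≫ p = fst G₀ F ≫ π) :
    IsPullback (fst G₀ F).left q.left π.left p.left :=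
  isPullback_of_geomQuots r π hπinv b q hqinv (fst G₀ F) (equivariant_fst r hr aF b hb) p hp

end Assoc

/-- Cartesianness of a square descends along an fpqc base change. -/
theorem isPullback_of_fpqc {G₀ B X Y QX QY QXY : Over S} (π : G₀ ⟶ B) [SchDesc.IsFpqc π.left]
    {qX : G₀ ⊗ X ⟶ QX} {qY : G₀ ⊗ Y ⟶ QY} {qXY : G₀ ⊗ (X ⊗ Y) ⟶ QXY}
    {pX : QX ⟶ B} {pY : QY ⟶ B} {pXY : QXY ⟶ B} {fX : QXY ⟶ QX} {fY : QXY ⟶ QY}
    (hX : IsPullback (fst G₀ X) qX π pX) (hY : IsPullback (fst G₀ Y) qY π pY)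
    (hXY : IsPullback (fst G₀ (X ⊗ Y)) qXY π pXY)
    (hfX : qXY ≫ fX = (G₀ ◁ fst X Y) ≫ qX) (hfXp : fX ≫ pX = pXY)
    (hfY : qXY ≫ fY = (G₀ ◁ snd X Y) ≫ qY) (hfYp : fY ≫ pY = pXY) :
    IsPullback fX fY pX pY := by
  have hw : fX ≫ pX = fY ≫ pY := by rw [hfXp, hfYp]
  have hmk : ∀ {T : Over S} (g : T ⟶ G₀) (x : T ⟶ X) (y : T ⟶ Y),
      (lift g (lift x y) ≫ qXY) ≫ fX = lift g x ≫ qX ∧ (lift g (lift x y) ≫ qXY) ≫ fY = lift g y ≫ qY := by
    intro T g x y
    constructor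
    · rw [Category.assoc, hfX, lift_whiskerLeft_assoc, lift_fst]
    · rw [Category.assoc, hfY, lift_whiskerLeft_assoc, lift_snd]
  have huniq : ∀ {T : Over S} (z z' : T ⟶ QXY), z ≫ fX = z' ≫ fX → z ≫ fY = z' ≫ fY → z = z' := by
    intro T z z' h1 h2
    obtain ⟨T', k, g, hk, hg⟩ := exists_fpqc_lift π (z ≫ pXY)
    haveI := hk
    haveI := TorsorPush.epi_of_isFpqc k
    have hg' : g ≫ π = (k ≫ z) ≫ pXY := by rw [hg, Category.assoc]
    have hg'' : g ≫ π = (k ≫ z') ≫ pXY := by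
      rw [hg', ← hfXp, Category.assoc, reassoc_of% h1, ← Category.assoc]
    have key : ∀ (w : T' ⟶ G₀ ⊗ (X ⊗ Y)), w = lift (w ≫ fst _ _) (lift (w ≫ snd _ _ ≫ fst X Y) (w ≫ snd _ _ ≫ snd X Y)) := by
      intro w
      rw [← comp_lift, ← comp_lift]
      simp
    rw [← cancel_epi k, ← hXY.lift_snd _ _ hg', ← hXY.lift_snd _ _ hg'']
    congr 1
    rw [key (hXY.lift g (k ≫ z) hg'), key (hXY.lift g (k ≫ z') hg'')]
    rw [hXY.lift_fst, hXY.lift_fst]
    congr 2
    · have e : ∀ (v : T' ⟶ QXY) (hv : g ≫ π = v ≫ pXY), lift g (hXY.lift g v hv ≫ snd _ _ ≫ fst X Y) ≫ qX = v ≫ fX := by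
        intro v hv
        conv_rhs => rw [← hXY.lift_snd g v hv, key (hXY.lift g v hv), (hmk _ _ _).1, hXY.lift_fst]
      have e0 : lift g (hXY.lift g (k ≫ z) hg' ≫ snd _ _ ≫ fst X Y) =
          lift g (hXY.lift g (k ≫ z') hg'' ≫ snd _ _ ≫ fst X Y) :=
        hX.hom_ext (by rw [lift_fst, lift_fst]) (by rw [e, e, Category.assoc, h1, Category.assoc])
      simpa using congrArg (· ≫ snd G₀ X) e0
    · have e : ∀ (v : T' ⟶ QXY) (hv : g ≫ π = v ≫ pXY), lift g (hXY.lift g v hv ≫ snd _ _ ≫ snd X Y) ≫ qY = v ≫ fY := by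
        intro v hv
        conv_rhs => rw [← hXY.lift_snd g v hv, key (hXY.lift g v hv), (hmk _ _ _).2, hXY.lift_fst]
      have e0 : lift g (hXY.lift g (k ≫ z) hg' ≫ snd _ _ ≫ snd X Y) =
          lift g (hXY.lift g (k ≫ z') hg'' ≫ snd _ _ ≫ snd X Y) :=
        hY.hom_ext (by rw [lift_fst, lift_fst]) (by rw [e, e, Category.assoc, h2, Category.assoc])
      simpa using congrArg (· ≫ snd G₀ Y) e0
  have hex : ∀ (s : PullbackCone pX pY), ∃ z : s.pt ⟶ QXY, z ≫ fX = s.fst ∧ z ≫ fY = s.snd := fun s => by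
    obtain ⟨T', k, g, hk, hg⟩ := exists_fpqc_lift π (s.fst ≫ pX)
    haveI := hk
    haveI := TorsorPush.epi_of_isFpqc k
    have hgX : g ≫ π = (k ≫ s.fst) ≫ pX := by rw [hg, Category.assoc]
    have hgY : g ≫ π = (k ≫ s.snd) ≫ pY := by rw [hg, s.condition, Category.assoc]
    let z' := lift g (lift (hX.lift g (k ≫ s.fst) hgX ≫ snd G₀ X) (hY.lift g (k ≫ s.snd) hgY ≫ snd G₀ Y)) ≫ qXY
    have eX : lift g (hX.lift g (k ≫ s.fst) hgX ≫ snd G₀ X) = hX.lift g (k ≫ s.fst) hgX := by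
      conv_rhs => rw [← Category.comp_id (hX.lift g (k ≫ s.fst) hgX), ← lift_fst_snd, comp_lift, hX.lift_fst]
    have eY : lift g (hY.lift g (k ≫ s.snd) hgY ≫ snd G₀ Y) = hY.lift g (k ≫ s.snd) hgY := by
      conv_rhs => rw [← Category.comp_id (hY.lift g (k ≫ s.snd) hgY), ← lift_fst_snd, comp_lift, hY.lift_fst]
    have h1 : z' ≫ fX = k ≫ s.fst := by rw [(hmk _ _ _).1, eX, hX.lift_snd]
    have h2 : z' ≫ fY = k ≫ s.snd := by rw [(hmk _ _ _).2, eY, hY.lift_snd]
    clear_value z'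
    obtain ⟨w, hw'⟩ := TorsorPush.exists_desc k z' fun Y a b hab => huniq _ _
      (by rw [Category.assoc, Category.assoc, h1, ← Category.assoc, hab, Category.assoc])
      (by rw [Category.assoc, Category.assoc, h2, ← Category.assoc, hab, Category.assoc])
    exact ⟨w, by rw [← cancel_epi k, ← Category.assoc, hw', h1],
      by rw [← cancel_epi k, ← Category.assoc, hw', h2]⟩
  choose l hl₁ hl₂ using hex
  exact IsPullback.of_isLimit' ⟨hw⟩ (PullbackCone.IsLimit.mk hw l hl₁ hl₂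
    fun s m h₁ h₂ => huniq _ _ (by rw [h₁, hl₁]) (by rw [h₂, hl₂]))

end Groth.Agent.AssocBundle
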