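import Groth.Agent.AssocBundleLib.Basic
import Groth.Agent.GitQuot.Torsor

/-!
# An fpqc torsor is an fpqc morphism
-/

set_option autoImplicit false
set_option linter.style.haveILetI false
set_option backward.isDefEq.respectTransparency false
set_option backward.isDefEq.respectTransparency.types false

universe u

open CategoryTheory CategoryTheory.Limits MonoidalCategory CartesianMonoidalCategory MonObj
  AlgebraicGeometry

namespace Groth.Agent.AssocBundle

variable {S : Scheme.{u}} {G X Y : Over S} [GrpObj G]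

theorem isFpqc_of_torsor (a : AlgGrp.Action G X) (φ : X ⟶ Y) [IsAffineHom G.hom] [Flat G.hom]
    (hcart : IsPullback a.act (snd G X) φ φ)
    (hloc : NonAbH1.IsLocallyTrivialFor Scheme.fpqcPrecoverage (Over.mk φ.left : Over Y.left)) :
    SchDesc.IsFpqc φ.left := by
  obtain ⟨haff, hq⟩ := GitTorsor.isAffineHom_and_isGeomQuot a φ hcart hloc
  haveI := haff
  haveI : Surjective φ.left := ⟨hq.surj⟩
  obtain ⟨R, hR, hsec⟩ := hloc
  obtain ⟨I₀, Z, f, rfl⟩ := R.exists_eq_ofArrows
  let E0 : PreZeroHypercover Y.left := { I₀ := I₀, X := Z, f := f }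
  obtain ⟨hq0, hfl⟩ := (HTopV.mem_fpqc_iff E0).mp hR
  haveI := hq0
  let E := QuasiCompactCover.ulift E0
  have hE : E.presieve₀ ∈ Scheme.fpqcPrecoverage Y.left :=
    (HTopV.mem_fpqc_iff E).mpr ⟨inferInstanceAs (QuasiCompactCover (QuasiCompactCover.ulift E0)), fun i => hfl _⟩
  haveI : SchDesc.IsFpqc (Sigma.desc E.f) := SchDesc.isFpqc_sigmaDesc (X := E.X) (f := E.f) hE
  have hs : ∀ i : E.I₀, ∃ s : E.X i ⟶ X.left, s ≫ φ.left = E.f i := fun i => hsec _ (Presieve.ofArrows.mk _)
  choose s hs using hs
  let p := Sigma.desc E.f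
  let σ : (∐ E.X) ⟶ X.left := Sigma.desc s
  have hσ : σ ≫ φ.left = p := Sigma.hom_ext _ _ fun i => by simp [σ, p, hs]
  have hl : IsPullback a.act.left (snd G X).left φ.left φ.left := hcart.map (Over.forget S)
  have h1 : Flat (snd G X).left := MorphismProperty.pullback_snd G.hom X.hom ‹_›
  let fst' := hl.lift (pullback.fst φ.left p) (pullback.snd φ.left p ≫ σ) (by
    rw [Category.assoc, hσ, pullback.condition])
  have sq : IsPullback fst' (pullback.snd φ.left p) (snd G X).left σ :=
    IsPullback.of_right (t := hl) (by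
      rw [hl.lift_fst, hσ]; exact IsPullback.of_hasPullback φ.left p) (hl.lift_snd _ _ _)
  haveI : Flat φ.left := TorsorDesc.prop_of_isFpqc @Flat inferInstance φ.left p (MorphismProperty.of_isPullback sq h1)
  exact SchDesc.IsFpqc.of_quasiCompact φ.left

end Groth.Agent.AssocBundle
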